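import Groth.Agent.ExtSS.ExtZDim
import Groth.Agent.ExtSS.Global
import Groth.Agent.HTop16.SpectralVanish
import Groth.Agent.FlatMorStrat.Supported
import Groth.Agent.SpecSeq.Consequences
import Groth.Agent.SerreDual.ExtShCoherent
import Groth.Agent.Coherent.ModExt
import Groth.Prelude.Def_DCoh2
import Groth.Agent.DQCoh.RHomInjBound

/-!
# `Ext` of coherent modules vanishes above the dimension on regular Noetherian schemes
-/

set_option autoImplicit false
set_option backward.isDefEq.respectTransparency false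
set_option linter.style.haveILetI false
set_option synthInstance.maxHeartbeats 400000

universe u

open CategoryTheory CategoryTheory.Limits AlgebraicGeometry Opposite TopologicalSpace CategoryTheory.Abelian
open CategoryTheory.Pretriangulated DerivedCategory
open Groth.Agent.Coherent

attribute [local instance] HasDerivedCategory.standard

namespace Groth.Agent.ExtDim14

variable {X : Scheme.{u}} [IsNoetherian X]

omit [AlgebraicGeometry.IsNoetherian X] in
/-- The dimension of a closed subset whose points have local rings of dimension at least `q`. -/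
theorem dimLT_of_le_stalk (d q : ℕ) (hd : topologicalKrullDim X ≤ d) {Z : Scheme.{u}} (i : Z ⟶ X)
    [IsClosedImmersion i] (h : ∀ z : Z, (q : WithBot ℕ∞) ≤ ringKrullDim (X.presheaf.stalk (i z))) :
    HTop16.Spectral.DimLT Z.toTopCat (d + 1 - q) := by
  intro l
  let l' : LTSeries X := (l.map (irreducibleSetEquivPoints (α := Z)) (OrderIso.strictMono _)).map
    (fun z => i z) (fun a b hab => ⟨hab.le.map i.continuous,
      fun h' => hab.not_ge ((i.isEmbedding.isInducing.specializes_iff).1 h')⟩)
  have h1 : (l.length : ℕ∞) ≤ Order.height l'.last := Order.length_le_height_last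
  have h2 : (q : ℕ∞) ≤ Order.coheight l'.last := by
    have h2' := h (((l.map (irreducibleSetEquivPoints (α := Z)) (OrderIso.strictMono _))).last)
    rw [ringKrullDim_stalk_eq_coheight] at h2'
    exact WithBot.coe_le_coe.1 h2'
  have h3 : (Order.height l'.last + Order.coheight l'.last : ℕ∞) ≤ (d : WithBot ℕ∞) := by
    haveI : Nonempty X := ⟨l'.last⟩
    refine le_trans ?_ ((Order.krullDim_eq_of_orderIso (irreducibleSetEquivPoints (α := X))).ge.trans hd)
    rw [Order.krullDim_eq_iSup_height_add_coheight_of_nonempty]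
    exact WithBot.coe_le_coe.2 (le_iSup (fun a => Order.height a + Order.coheight a) l'.last)
  have h4 : ((l.length + q : ℕ) : ℕ∞) ≤ (d : ℕ∞) := by
    rw [Nat.cast_add]
    exact (add_le_add h1 h2).trans (WithBot.coe_le_coe.1 h3)
  have h5 : l.length + q ≤ d := by exact_mod_cast h4
  omega

/-- Cohomology of a quasi-coherent module supported at points with big local rings. -/
theorem subsingleton_HH_of_stalk_dim (d q p : ℕ) (hd : topologicalKrullDim X ≤ d) (hpq : d < p + q)
    (M : X.Modules) [Coh.IsQCoh M]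
    (h : ∀ y : X, ringKrullDim (X.presheaf.stalk y) < (q : WithBot ℕ∞) → Subsingleton (M.presheaf.stalk y)) :
    Subsingleton (Coh.HH X M p) := by
  refine FlatMorStrat.subsingleton_HH_of_closedSubschemes M {y : X | (q : WithBot ℕ∞) ≤ ringKrullDim (X.presheaf.stalk y)}
    p (fun y hy => le_of_not_gt fun hlt => hy (h y hlt)) fun Z i _ hr G _ => ?_
  haveI : IsLocallyNoetherian Z := LocallyOfFiniteType.isLocallyNoetherian i
  haveI : CompactSpace Z := QuasiCompact.compactSpace_of_compactSpace i
  haveI : IsNoetherian Z := ⟨⟩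
  haveI : SpectralSpace Z.toTopCat :=
    { toT0Space := inferInstanceAs (T0Space Z)
      toCompactSpace := inferInstanceAs (CompactSpace Z)
      toQuasiSober := inferInstanceAs (QuasiSober Z)
      toPrespectralSpace := inferInstanceAs (PrespectralSpace Z)
      toQuasiSeparatedSpace := inferInstanceAs (QuasiSeparatedSpace Z) }
  exact HTop16.Spectral.vanLT (d + 1 - q) Z.toTopCat
    (dimLT_of_le_stalk d q hd i fun z => hr ⟨z, rfl⟩) _ p (by omega)

/-- Ext of coherent modules above the dimension. -/
theorem subsingleton_ext (hreg : ∀ x : X, IsRegularLocalRing (X.presheaf.stalk x)) (d : ℕ)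
    (hd : topologicalKrullDim X ≤ d) (F G : X.Modules) (hF : Coh.IsCoh F) (hG : Coh.IsCoh G) (n : ℕ)
    (hn : d < n) : Subsingleton (Ext F G n) := by
  classical
  haveI hinj : HasInjectiveResolutions (ModSite.Mod X.sheaf) := hasInjectiveResolutions_modules X
  haveI : HasInjectiveResolutions X.Modules := hinj
  haveI : ModSite.HasSheafHom (O := X.sheaf) F := Groth.Agent.S6165.result X.sheaf F
  let H : ℤ → AddCommGrpCat.{u} := fun m =>
    if 0 ≤ m then AddCommGrpCat.of (Abelian.Ext F G m.toNat) else AddCommGrpCat.of PUnit.{u + 1}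
  let E₂ : ℤ → ℤ → AddCommGrpCat.{u} := fun p q => if 0 ≤ p ∧ 0 ≤ q then
    AddCommGrpCat.of (Coh.HH X ((ModSite.extSh (O := X.sheaf) F q.toNat).obj G) p.toNat)
    else AddCommGrpCat.of PUnit.{u + 1}
  obtain ⟨E, a, hfin, -, hE⟩ := ExtSS.exists_localToGlobal (O := X.sheaf) F G (H := H) (E₂ := E₂)
    (fun m => SpecSeq.nonempty_iso_if (by omega) (Iso.refl _))
    (fun m hm => SpecSeq.isZero_if (by omega) (AddCommGrpCat.isZero_of_subsingleton _))
    (fun p q => SpecSeq.nonempty_iso_if ⟨by omega, by omega⟩ (Iso.refl _))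
    (fun p q hpq => SpecSeq.isZero_if hpq (AddCommGrpCat.isZero_of_subsingleton _))
  have hP : SpecSeq.ClassPair (C := AddCommGrpCat.{u}) (fun A => IsZero A) (fun _ => True) :=
    { le := fun _ _ => trivial
      isoP := fun e h => h.of_iso e.symm
      isoQ := fun _ _ => trivial
      zeroP := fun _ h => h
      kerP := fun φ h _ => IsZero.of_mono (kernel.ι φ) h
      cokerP := fun φ _ h => IsZero.of_epi (cokernel.π φ) h
      kerQ := fun _ _ _ => trivial
      cokerQ := fun _ _ _ => trivial
      extP := fun Sc hS h₁ h₃ => hS.exact.isZero_X₂ (h₁.eq_of_src _ _) (h₃.eq_of_tgt _ _) }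
  have hH := SpecSeq.mem_of_abutment hP E a (n : ℤ) (hfin n) (fun _ => trivial) fun p => by
    obtain ⟨e⟩ := hE p (n - p)
    refine IsZero.of_iso ?_ e
    dsimp [E₂]
    split_ifs with hpq
    · obtain ⟨p, rfl⟩ := Int.eq_ofNat_of_zero_le hpq.1
      obtain ⟨q, hq⟩ := Int.eq_ofNat_of_zero_le hpq.2
      rw [hq]
      simp only [Int.toNat_natCast]
      let I := injectiveResolution G
      let eM : (ModSite.extSh (O := X.sheaf) F q).obj G ≅ (SerreDual.homCx F I).homology q :=
        SerreDual.extShIso F I q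
      have hcoh := SerreDual.isCoh_homology hF hG I q
      haveI : Coh.IsQCoh ((ModSite.extSh (O := X.sheaf) F q).obj G) :=
        haveI := hcoh.1
        isQCoh_of_iso eM.symm
      haveI := subsingleton_HH_of_stalk_dim d q p hd (by omega) ((ModSite.extSh (O := X.sheaf) F q).obj G)
        fun y hy => @Equiv.subsingleton _ _
          ((Scheme.Modules.toPresheaf X ⋙ TopCat.Presheaf.stalkFunctor Ab.{u} y).mapIso eM).addCommGroupIsoToAddEquiv.toEquiv
          (ExtSS.subsingleton_stalk_ext hreg hF hG I q y hy)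
      exact AddCommGrpCat.isZero_of_subsingleton _
    · exact AddCommGrpCat.isZero_of_subsingleton _
  have := AddCommGrpCat.subsingleton_of_isZero hH
  simpa [H] using this

section Derived

local notation "t₀" => (DerivedCategory.TStructure.t : CategoryTheory.Triangulated.TStructure (DCoh.D X))

/-- Maps between shifted coherent modules. -/
theorem eq_zero_single (hreg : ∀ x : X, IsRegularLocalRing (X.presheaf.stalk x)) (d : ℕ)
    (hd : topologicalKrullDim X ≤ d) (F G : X.Modules) (hF : Coh.IsCoh F) (hG : Coh.IsCoh G) (n : ℤ)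
    (hn : (d : ℤ) < n) (φ : DCoh.inD X F ⟶ (shiftFunctor (DCoh.D X) n).obj (DCoh.inD X G)) : φ = 0 := by
  obtain ⟨m, rfl⟩ := Int.eq_ofNat_of_zero_le (show 0 ≤ n by omega)
  haveI := subsingleton_ext hreg d hd F G hF hG m (by omega)
  exact (Ext.homEquiv (n := m)).symm.injective (Subsingleton.elim _ _)

theorem eq_zero_singles (hreg : ∀ x : X, IsRegularLocalRing (X.presheaf.stalk x)) (d : ℕ)
    (hd : topologicalKrullDim X ≤ d) (F G : X.Modules) (hF : Coh.IsCoh F) (hG : Coh.IsCoh G) (i j : ℤ)
    (hij : j + d < i) (φ : (singleFunctor X.Modules i).obj F ⟶ (singleFunctor X.Modules j).obj G) : φ = 0 := by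
  let S := shiftFunctor (DCoh.D X) i
  apply S.map_injective
  let a : S.obj ((singleFunctor X.Modules i).obj F) ≅ DCoh.inD X F :=
    ((DerivedCategory.singleFunctors X.Modules).shiftIso i 0 i (by omega)).app F
  let b : S.obj ((singleFunctor X.Modules j).obj G) ≅ (shiftFunctor (DCoh.D X) (i - j)).obj (DCoh.inD X G) :=
    ((DerivedCategory.singleFunctors X.Modules).shiftIso i (j - i) j (by omega)).app G ≪≫
      (((DerivedCategory.singleFunctors X.Modules).shiftIso (i - j) (j - i) 0 (by omega)).app G).symm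
  rw [S.map_zero, ← cancel_epi a.inv, ← cancel_mono b.hom, comp_zero, zero_comp]
  exact eq_zero_single hreg d hd F G hF hG (i - j) (by omega) _

omit [AlgebraicGeometry.IsNoetherian X] in
/-- The top piece of a bounded object. -/
theorem exists_single (E : DCoh.D X) (b : ℤ) [E.IsLE b] :
    Nonempty (((t₀).truncGE b).obj E ≅ (singleFunctor X.Modules b).obj (DCoh.HD E b)) := by
  let C := ((t₀).truncGE b).obj E
  haveI : C.IsGE b := inferInstanceAs ((t₀).IsGE C b)
  haveI : C.IsLE b := inferInstanceAs ((t₀).IsLE C b)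
  obtain ⟨Y, ⟨e⟩⟩ := C.exists_iso_singleFunctor_obj_of_isGE_of_isLE b
  let T := ((t₀).triangleLTGE b).obj E
  have hT : T ∈ distTriang (DCoh.D X) := (t₀).triangleLTGE_distinguished b E
  haveI h1 : (((t₀).truncLT b).obj E).IsLE (b - 1) := (t₀).isLE_truncLT_obj E b (b - 1) (by omega)
  haveI : Epi ((homologyFunctor X.Modules b).map T.mor₂) :=
    (HomologySequence.epi_homologyMap_mor₂_iff T hT b (b + 1) rfl).2
      ((isZero_of_isLE (((t₀).truncLT b).obj E) (b - 1) (b + 1) (by omega)).eq_of_tgt _ _)
  haveI : Mono ((homologyFunctor X.Modules b).map T.mor₂) :=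
    (HomologySequence.mono_homologyMap_mor₂_iff T hT b).2
      ((isZero_of_isLE (((t₀).truncLT b).obj E) (b - 1) b (by omega)).eq_of_src _ _)
  haveI := isIso_of_mono_of_epi ((homologyFunctor X.Modules b).map T.mor₂)
  let eY : DCoh.HD E b ≅ Y := asIso ((homologyFunctor X.Modules b).map T.mor₂) ≪≫
    (homologyFunctor X.Modules b).mapIso e ≪≫
    (DerivedCategory.singleFunctorCompHomologyFunctorIso X.Modules b).app Y
  exact ⟨e ≪≫ (singleFunctor X.Modules b).mapIso eY.symm⟩

/-- Maps out of a bounded coherent object from maps out of its cohomology. -/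
theorem devissage (P : DCoh.D X → Prop) (hiso : ∀ {A B : DCoh.D X}, (A ≅ B) → P A → P B)
    (hext : ∀ T ∈ distTriang (DCoh.D X), P T.obj₁ → P T.obj₃ → P T.obj₂)
    (hzero : ∀ A : DCoh.D X, IsZero A → P A) (lo hi : ℤ)
    (hsingle : ∀ (i : ℤ) (F : X.Modules), lo ≤ i → i ≤ hi → Coh.IsCoh F → P ((singleFunctor X.Modules i).obj F))
    (k : ℕ) : ∀ (E : DCoh.D X) (b : ℤ), b ≤ hi → DCoh.IsCohD E → E.IsGE lo → E.IsLE b → b < lo + k → P E := by
  induction k with
  | zero =>
    intro E b _ _ hge hle hb
    exact hzero E ((t₀).isZero E b lo (by omega))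
  | succ k ih =>
    intro E b hbh hE hge hle hb
    by_cases hb' : b < lo + k
    · exact ih E b hbh hE hge hle hb'
    obtain ⟨e⟩ := exists_single E b
    refine hext _ ((t₀).triangleLTGE_distinguished b E) ?_ (hiso e.symm (hsingle b _ (by omega) hbh (hE b)))
    haveI : (((t₀).truncLT b).obj E).IsLE (b - 1) := (t₀).isLE_truncLT_obj E b (b - 1) (by omega)
    haveI : (((t₀).truncLT b).obj E).IsGE lo := inferInstanceAs ((t₀).IsGE (((t₀).truncLT b).obj E) lo)
    exact ih _ (b - 1) (by omega) (DQCoh.isCohD_truncLT E hE b) ‹(((t₀).truncLT b).obj E).IsGE lo› ‹(((t₀).truncLT b).obj E).IsLE (b - 1)› (by omega)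

/-- Orthogonality of bounded coherent objects far apart. -/
theorem eq_zero_bounded (hreg : ∀ x : X, IsRegularLocalRing (X.presheaf.stalk x)) (d : ℕ)
    (hd : topologicalKrullDim X ≤ d) (K L : DCoh.D X) (a cK bL : ℤ) (hK : DCoh.IsCohD K) (hL : DCoh.IsCohD L)
    (hKge : K.IsGE (a + d)) (hKle : K.IsLE cK) (hLge : L.IsGE bL) (hLle : L.IsLE (a - 1))
    (φ : K ⟶ L) : φ = 0 := by
  refine devissage (fun A => ∀ f : A ⟶ L, f = 0) (fun e h f => ?_) (fun T hT h1 h3 f => ?_)
    (fun A hA f => hA.eq_of_src _ _) (a + d) cK (fun i F hi _ hF => ?_) (cK - (a + d) + 1).toNat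
    K cK le_rfl hK hKge hKle (by omega) φ
  · rw [← cancel_epi e.hom, comp_zero]
    exact h _
  · obtain ⟨g, rfl⟩ := Triangle.yoneda_exact₂ T hT f (h1 _)
    rw [h3 g, comp_zero]
  · refine devissage (fun B => ∀ g : (singleFunctor X.Modules i).obj F ⟶ B, g = 0) (fun e h g => ?_)
      (fun T hT h1 h3 g => ?_) (fun B hB g => hB.eq_of_tgt _ _) bL (a - 1) (fun j G _ hj hG g => ?_)
      (a - 1 - bL + 1).toNat L (a - 1) le_rfl hL hLge hLle (by omega)
    · rw [← cancel_mono e.inv, zero_comp]
      exact h _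
    · obtain ⟨g', rfl⟩ := Triangle.coyoneda_exact₂ T hT g (h3 _)
      rw [h1 g', zero_comp]
    · exact eq_zero_singles hreg d hd F G hF hG i j (by omega) g

end Derived

end Groth.Agent.ExtDim14
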